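import Cfsg.Agent.Lib.ClassSizeTop.Basic
import Cfsg.Agent.Lib.ClassSizeIto.TwoSizes
import Cfsg.Agent.Lib.Core.Nilpotent

/-!
Normal subgroups with two `G`-class sizes: components.
-/

set_option autoImplicit false

namespace Cfsg.Agent.Lib.ClassSizeNormal

open Subgroup Cfsg.Agent.Lib.ClassSizeTop

variable {G : Type*} [Group G] [Finite G]

/-- The component of `a` in `N`. -/
abbrev comp (N : Subgroup G) (a : G) : Subgroup G := N ⊓ centralizer ({a} : Set G)

theorem isPGroup_zpowers {p : ℕ} [Fact p.Prime] {w : G} (h : ∃ i, orderOf w = p ^ i) :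
    IsPGroup p (zpowers w) := by
  obtain ⟨i, hi⟩ := h
  exact IsPGroup.of_card (n := i) (by rw [Nat.card_zpowers, hi])

omit [Finite G] in
theorem orderOf_eq_pow_of_pow_eq_one {p : ℕ} [Fact p.Prime] {w : G} {i : ℕ} (h : w ^ p ^ i = 1) :
    ∃ j, orderOf w = p ^ j := by
  obtain ⟨j, -, hj⟩ := (Nat.dvd_prime_pow Fact.out).1 (orderOf_dvd_of_pow_eq_one h)
  exact ⟨j, hj⟩

/-- The order of a product set. -/
theorem card_mul_card_le_mul {A B S : Subgroup G} (hA : A ≤ S) (hB : B ≤ S) :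
    Nat.card A * Nat.card B ≤ Nat.card S * Nat.card (A ⊓ B : Subgroup G) := by
  have h1 : Nat.card (A ⊓ B : Subgroup G) * (A ⊓ B).relIndex A = Nat.card A := by
    have h := relIndex_mul_relIndex ⊥ (A ⊓ B) A bot_le inf_le_left
    rwa [relIndex_bot_left, relIndex_bot_left] at h
  have h2 : Nat.card B * B.relIndex S = Nat.card S := by
    have h := relIndex_mul_relIndex ⊥ B S bot_le hB
    rwa [relIndex_bot_left, relIndex_bot_left] at h
  have h3 : B.relIndex A ≤ B.relIndex S := relIndex_le_of_le_right hA FiniteIndex.index_ne_zero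
  rw [inf_relIndex_left] at h1
  calc Nat.card A * Nat.card B = Nat.card B * (Nat.card (A ⊓ B : Subgroup G) * B.relIndex A) := by
        rw [h1]; ring
    _ ≤ Nat.card B * (Nat.card (A ⊓ B : Subgroup G) * B.relIndex S) :=
        Nat.mul_le_mul_left _ (Nat.mul_le_mul_left _ h3)
    _ = Nat.card S * Nat.card (A ⊓ B : Subgroup G) := by rw [← h2]; ring

theorem card_eq_card_inf_mul (A B : Subgroup G) :
    Nat.card (B ⊓ A : Subgroup G) * B.relIndex A = Nat.card A := by
  have h := relIndex_mul_relIndex ⊥ (B ⊓ A) A bot_le inf_le_right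
  rwa [relIndex_bot_left, relIndex_bot_left, inf_relIndex_right] at h

theorem relIndex_dvd_index_of_normal' (C N : Subgroup G) [N.Normal] :
    C.relIndex N ∣ C.index := by
  have h1 : C.relIndex N * N.index = N.relIndex C * C.index := by
    rw [← inf_relIndex_right, relIndex_mul_index inf_le_right, inf_comm,
      ← inf_relIndex_right N C, relIndex_mul_index inf_le_right]
  have h2 : N.relIndex C ∣ N.index := relIndex_dvd_index_of_normal N C
  have h3 : C.relIndex N * N.index ∣ C.index * N.index := by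
    rw [h1, mul_comm C.index]; exact Nat.mul_dvd_mul_right h2 _
  exact (Nat.mul_dvd_mul_iff_right (Nat.pos_of_ne_zero FiniteIndex.index_ne_zero)).1 h3

/-- A `p`-group has a fixed noncentral element, modulo the centre, in each noncentral normal
subgroup that it contains. -/
theorem exists_fixed_mod_center {p : ℕ} [Fact p.Prime] {S M : Subgroup G} (hS : IsPGroup p S)
    (hMS : M ≤ S) (hMc : ¬ M ≤ center G) (hn : ∀ g ∈ S, ∀ a ∈ M, g * a * g⁻¹ ∈ M) :
    ∃ a ∈ M, a ∉ center G ∧ ∀ g ∈ S, g * a * g⁻¹ * a⁻¹ ∈ center G := by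
  set π := QuotientGroup.mk' (center G) with hπ
  set Sb := S.map π
  set Mb := (M.map π).subgroupOf Sb
  haveI : Mb.Normal := by
    refine ⟨fun x hx t => ?_⟩
    rw [mem_subgroupOf] at hx ⊢
    obtain ⟨a, ha, hax⟩ := hx
    obtain ⟨g, hg, hgt⟩ := t.2
    refine ⟨g * a * g⁻¹, hn g hg a ha, ?_⟩
    rw [map_mul, map_mul, map_inv, hax, hgt]
    rfl
  haveI : Group.IsNilpotent Sb := (hS.map π).isNilpotent
  have hne : Mb ≠ ⊥ := by
    intro h
    apply hMc
    intro a ha
    have : (⟨π a, mem_map_of_mem π (hMS ha)⟩ : Sb) ∈ Mb :=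
      mem_subgroupOf.2 (mem_map_of_mem π ha)
    rw [h, mem_bot] at this
    exact (QuotientGroup.eq_one_iff a).1 (congrArg Subtype.val this)
  obtain ⟨x, hx, hx1⟩ := (Subgroup.bot_or_exists_ne_one (Mb ⊓ center Sb)).resolve_left
    (Nilp.inf_center_ne_bot_of_normal hne)
  obtain ⟨hxM, hxc⟩ := mem_inf.1 hx
  obtain ⟨a, ha, hax⟩ := mem_subgroupOf.1 hxM
  refine ⟨a, ha, fun hac => hx1 (Subtype.ext ?_), fun g hg => ?_⟩
  · rw [← hax]
    exact (QuotientGroup.eq_one_iff a).2 hac
  · have h := congrArg Subtype.val (mem_center_iff.1 hxc ⟨π g, mem_map_of_mem π hg⟩)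
    rw [Subgroup.coe_mul, Subgroup.coe_mul] at h
    change π g * (x : G ⧸ center G) = (x : G ⧸ center G) * π g at h
    rw [← QuotientGroup.eq_one_iff]
    show π (g * a * g⁻¹ * a⁻¹) = 1
    rw [map_mul, map_mul, map_mul, map_inv, map_inv, hax, h, mul_inv_cancel_right, mul_inv_cancel]

/-- An element fixing `a` modulo the centre normalises its component. -/
theorem conj_mem_comp {N : Subgroup G} [hN : N.Normal] {g a c : G}
    (hg : g * a * g⁻¹ * a⁻¹ ∈ center G) (hc : c ∈ comp N a) : g * c * g⁻¹ ∈ comp N a := by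
  obtain ⟨h1, h2⟩ := mem_inf.1 hc
  refine mem_inf.2 ⟨hN.conj_mem c h1 g, ?_⟩
  have e : g * a * g⁻¹ = (g * a * g⁻¹ * a⁻¹) * a := by group
  rw [← cent_mul_central hg, ← e, cent_conj]
  exact ⟨c, h2, rfl⟩

theorem conj_mem_comp_iff {N : Subgroup G} [hN : N.Normal] (g a c : G) :
    g * c * g⁻¹ ∈ comp N (g * a * g⁻¹) ↔ c ∈ comp N a := by
  rw [comp, comp, mem_inf, mem_inf, cent_conj]
  constructor
  · rintro ⟨h1, w, hw, he⟩
    have : w = c := by
      have he' : g * w * g⁻¹ = g * c * g⁻¹ := he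
      exact mul_left_cancel (mul_right_cancel he')
    refine ⟨?_, this ▸ hw⟩
    have := hN.conj_mem _ h1 g⁻¹
    simpa [mul_assoc] using this
  · rintro ⟨h1, h2⟩
    exact ⟨hN.conj_mem c h1 g, c, h2, rfl⟩

/-- All noncentral elements of `N` have class size `m`. -/
structure Setup (G : Type*) [Group G] (N : Subgroup G) (m r : ℕ) : Prop where
  hm : ∀ a ∈ N, a ∉ center G → idx a = m
  hr : r.Prime
  hN : N.Normal
  hrel : ∀ w : G, (∃ i, orderOf w = r ^ i) → w ∈ N

namespace Setup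

variable {N : Subgroup G} {m r : ℕ} (T : Setup G N m r)
include T

theorem cent_eq_of_le {a b : G} (ha : a ∈ N) (hac : a ∉ center G) (hb : b ∈ N)
    (hbc : b ∉ center G) (hle : centralizer ({a} : Set G) ≤ centralizer ({b} : Set G)) :
    centralizer ({a} : Set G) = centralizer ({b} : Set G) :=
  eq_of_le_of_index_le hle (le_of_eq ((T.hm a ha hac).trans (T.hm b hb hbc).symm))

theorem le_cent_of_coprime_order {a b : G} (ha : a ∈ N) (hac : a ∉ center G) (hb : b ∈ N)
    (hcomm : Commute a b) (hco : (orderOf a).Coprime (orderOf b)) :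
    centralizer ({a} : Set G) ≤ centralizer ({b} : Set G) := by
  have hC := cent_mul_of_coprime hcomm hco
  have habc : a * b ∉ center G := fun h => hac ((zpowers_le.2 h) (mem_zpowers_mul hcomm hco))
  have heq := T.cent_eq_of_le (N.mul_mem ha hb) habc ha hac (hC.trans_le inf_le_left)
  exact heq ▸ hC.trans_le inf_le_right

theorem exists_primary_part {a : G} (ha : a ∈ N) (hac : a ∉ center G) :
    ∃ s : ℕ, s.Prime ∧ ∃ a' ∈ N, a' ∉ center G ∧ (∃ i, orderOf a' = s ^ i) ∧
      centralizer ({a} : Set G) = centralizer ({a'} : Set G) ∧ a' ∈ zpowers a := by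
  obtain ⟨s, hs, hsd⟩ : ∃ s : ℕ, s.Prime ∧ s ∣ orderOf (QuotientGroup.mk a : G ⧸ center G) :=
    Nat.exists_prime_and_dvd fun e => hac ((QuotientGroup.eq_one_iff a).1 (orderOf_eq_one_iff.1 e))
  haveI := Fact.mk hs
  obtain ⟨a1, a2, he, -, hi, ha2, hz1, -⟩ := ClassSize.exists_pParts (p := s) a
  have ha1 : a1 ∉ center G := fun hh => by
    rw [he, QuotientGroup.mk_mul, (QuotientGroup.eq_one_iff a1).2 hh, one_mul] at hsd
    exact (Nat.Prime.coprime_iff_not_dvd hs).1 ha2.symm
      (hsd.trans (orderOf_map_dvd (QuotientGroup.mk' (center G)) a2))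
  have ha1N : a1 ∈ N := (zpowers_le.2 ha) hz1
  exact ⟨s, hs, a1, ha1N, ha1, hi,
    T.cent_eq_of_le ha hac ha1N ha1 (cent_le_cent_of_mem_zpowers hz1), hz1⟩

/-- Components containing noncentral elements for two primes. -/
def Mixed (N : Subgroup G) (r : ℕ) (a : G) : Prop :=
  ∃ q : ℕ, q.Prime ∧ q ≠ r ∧ ∃ b ∈ comp N a, b ∉ center G ∧ ∃ i, orderOf b = q ^ i

theorem exists_r_element {a : G} (ha : a ∈ N) (hac : a ∉ center G)
    (hw : ∃ w ∈ N, w ∉ center G ∧ ∃ i, orderOf w = r ^ i) :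
    ∃ c ∈ comp N a, c ∉ center G ∧ ∃ i, orderOf c = r ^ i := by
  haveI := Fact.mk T.hr
  obtain ⟨w, hwN, hwc, k, hk⟩ := hw
  have hidx := (T.hm a ha hac).trans (T.hm w hwN hwc).symm
  have hZ : ∀ v : G, center G ≤ centralizer ({v} : Set G) :=
    fun v z hz => mem_cent.2 (mem_center_iff.1 hz v).symm
  have hrel : (center G).relIndex (centralizer ({a} : Set G)) =
      (center G).relIndex (centralizer ({w} : Set G)) := by
    have h1 := relIndex_mul_index (hZ a)
    have h2 := relIndex_mul_index (hZ w)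
    rw [show (centralizer ({a} : Set G)).index = (centralizer ({w} : Set G)).index from hidx] at h1
    exact Nat.eq_of_mul_eq_mul_right (idx_pos w) (h1.trans h2.symm)
  by_contra hno
  push Not at hno
  have hnd := not_dvd_relIndex_center (p := r) (H := centralizer ({a} : Set G))
    (fun b hb ⟨j, hj⟩ => by_contra fun hbc =>
      hno b (mem_inf.2 ⟨T.hrel b ⟨j, hj⟩, hb⟩) hbc j hj)
  rw [hrel] at hnd
  have hmem := pow_index_mem ((center G).subgroupOf (centralizer ({w} : Set G)))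
    ⟨w, mem_cent.2 rfl⟩
  have hwn : w ^ (center G).relIndex (centralizer ({w} : Set G)) ∈ center G := mem_subgroupOf.1 hmem
  obtain ⟨l, hl⟩ := exists_pow_eq_self_of_coprime (x := w)
    (n := (center G).relIndex (centralizer ({w} : Set G))) (by
      rw [hk]; exact Nat.Coprime.pow_right _ ((T.hr.coprime_iff_not_dvd).2 hnd).symm)
  exact hwc (hl ▸ pow_mem hwn l)

/-- The structure of a mixed component: abelian, and a common centraliser. -/
theorem mixed_facts {a : G} (ha : a ∈ N) (hac : a ∉ center G) (hmix : Mixed N r a)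
    (hw : ∃ w ∈ N, w ∉ center G ∧ ∃ i, orderOf w = r ^ i) :
    (∀ c ∈ comp N a, c ∉ center G → centralizer ({c} : Set G) = centralizer ({a} : Set G)) ∧
    (∀ c ∈ comp N a, ∀ d ∈ comp N a, c * d = d * c) := by
  obtain ⟨q, hq, hqr, b, hb, hbc, i, hi⟩ := hmix
  obtain ⟨c₀, hc₀, hc₀c, j, hj⟩ := T.exists_r_element ha hac hw
  have hbN := (mem_inf.1 hb).1
  have hc₀N := (mem_inf.1 hc₀).1
  -- first the primary part of `a`
  obtain ⟨s, hs, a', ha', ha'c, ⟨e, he⟩, hC, -⟩ := T.exists_primary_part ha hac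
  have hcopr : ∀ {p p' : ℕ}, p.Prime → p'.Prime → p ≠ p' → ∀ {x y : G} {k k' : ℕ},
      orderOf x = p ^ k → orderOf y = p' ^ k' → (orderOf x).Coprime (orderOf y) := by
    intro p p' hp hp' hne x y k k' hx hy
    rw [hx, hy]
    exact (((Nat.coprime_primes hp hp').2 hne).pow_left _).pow_right _
  obtain ⟨t, ht, d, hd, hdc, ⟨f, hf⟩, hts⟩ : ∃ t : ℕ, t.Prime ∧ ∃ d ∈ comp N a, d ∉ center G ∧
      (∃ f, orderOf d = t ^ f) ∧ t ≠ s := by
    by_cases hsr : s = r
    · exact ⟨q, hq, b, hb, hbc, ⟨i, hi⟩, fun h => hqr (h.trans hsr)⟩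
    · exact ⟨r, T.hr, c₀, hc₀, hc₀c, ⟨j, hj⟩, Ne.symm hsr⟩
  have hda : Commute a' d := by
    have := (mem_inf.1 hd).2
    rw [hC] at this
    exact (mem_cent.1 this).symm
  have hdN := (mem_inf.1 hd).1
  have hCd : centralizer ({a'} : Set G) = centralizer ({d} : Set G) :=
    T.cent_eq_of_le ha' ha'c hdN hdc
      (T.le_cent_of_coprime_order ha' ha'c hdN hda (hcopr hs ht hts.symm he hf))
  have hle : ∀ c ∈ comp N a, centralizer ({a} : Set G) ≤ centralizer ({c} : Set G) := by
    intro c hc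
    obtain ⟨hcN, hcC⟩ := mem_inf.1 hc
    haveI := Fact.mk hs
    obtain ⟨c1, c2, he', -, ⟨j1, hj1⟩, hc2, hz1, hz2⟩ := ClassSize.exists_pParts (p := s) c
    have hc1N : c1 ∈ N := (zpowers_le.2 hcN) hz1
    have hc2N : c2 ∈ N := (zpowers_le.2 hcN) hz2
    have hc1C : c1 ∈ centralizer ({a} : Set G) := (zpowers_le.2 hcC) hz1
    have hc2C : c2 ∈ centralizer ({a} : Set G) := (zpowers_le.2 hcC) hz2
    have e1 : centralizer ({a} : Set G) ≤ centralizer ({c1} : Set G) := by
      rw [hC, hCd]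
      refine T.le_cent_of_coprime_order hdN hdc hc1N ?_ (hcopr ht hs hts hf hj1)
      rw [hC, hCd] at hc1C
      exact (mem_cent.1 hc1C).symm
    have e2 : centralizer ({a} : Set G) ≤ centralizer ({c2} : Set G) := by
      rw [hC]
      refine T.le_cent_of_coprime_order ha' ha'c hc2N ?_ (by rw [he]; exact hc2.symm.pow_left e)
      rw [hC] at hc2C
      exact (mem_cent.1 hc2C).symm
    intro g hg
    rw [he', mem_cent, ← mul_assoc, mem_cent.1 (e1 hg), mul_assoc, mem_cent.1 (e2 hg), ← mul_assoc]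
  refine ⟨fun c hc hcc => (T.cent_eq_of_le ha hac (mem_inf.1 hc).1 hcc (hle c hc)).symm,
    fun c hc d hd' => mem_cent.1 (hle d hd' (mem_inf.1 hc).2)⟩

end Setup

end Cfsg.Agent.Lib.ClassSizeNormal
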