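import Cfsg.Agent.Lib.ClassSizeNormal.Basic

/-!
A normal subgroup with two `G`-class sizes containing a noncentral Sylow subgroup is nilpotent.
-/

set_option autoImplicit false

namespace Cfsg.Agent.Lib.ClassSizeNormal

open Subgroup Cfsg.Agent.Lib.ClassSizeTop

variable {G : Type*} [Group G] [Finite G]

theorem relIndex_center_le {A B S : Subgroup G} (hA : A ≤ S) (hB : B ≤ S)
    (hAB : A ⊓ B ≤ center G) : (center G).relIndex A ≤ B.relIndex S := by
  have h1 := card_eq_card_inf_mul A (center G)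
  have h2 := card_eq_card_inf_mul S B
  rw [inf_of_le_left hB] at h2
  have h3 := card_mul_card_le_mul hA hB
  have h4 : Nat.card (A ⊓ B : Subgroup G) ≤ Nat.card (center G ⊓ A : Subgroup G) :=
    Nat.le_of_dvd Nat.card_pos (card_dvd_of_le (le_inf hAB inf_le_left))
  have h5 := h3.trans (Nat.mul_le_mul_left (Nat.card S) h4)
  rw [← h1, ← h2] at h5
  have h6 : (center G).relIndex A * (Nat.card (center G ⊓ A : Subgroup G) * Nat.card B) ≤
      B.relIndex S * (Nat.card (center G ⊓ A : Subgroup G) * Nat.card B) := by linarith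
  exact Nat.le_of_mul_le_mul_right h6 (Nat.mul_pos Nat.card_pos Nat.card_pos)

theorem relIndex_center_mono {A B : Subgroup G} (h : A ≤ B) :
    (center G).relIndex A ≤ (center G).relIndex B :=
  relIndex_le_of_le_right h FiniteIndex.index_ne_zero

/-- A `q`-subgroup normalised by a Sylow `q`-subgroup lies in it. -/
theorem le_sylow_of_conj_mem {q : ℕ} [Fact q.Prime] (Q : Sylow q G) {A : Subgroup G}
    (hA : IsPGroup q A) (h : ∀ g ∈ (Q : Subgroup G), ∀ a ∈ A, g * a * g⁻¹ ∈ A) :
    A ≤ (Q : Subgroup G) := by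
  have hnm : (Q : Subgroup G) ≤ normalizer (A : Set G) := by
    intro g hg
    rw [mem_normalizer_iff]
    intro t
    refine ⟨h g hg t, fun ht => ?_⟩
    have := h g⁻¹ (inv_mem hg) _ ht
    simpa [mul_assoc] using this
  have hsup : IsPGroup q ((Q : Subgroup G) ⊔ A : Subgroup G) :=
    Q.isPGroup'.to_sup_of_normal_right' hA hnm
  exact (Q.is_maximal' hsup le_sup_left) ▸ le_sup_right

theorem exists_conj_le {q : ℕ} [Fact q.Prime] (Q : Sylow q G) {A : Subgroup G}
    (hA : IsPGroup q A) : ∃ g : G, ∀ a ∈ A, g * a * g⁻¹ ∈ (Q : Subgroup G) := by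
  obtain ⟨S, hS⟩ := hA.exists_le_sylow
  obtain ⟨g, hg⟩ := MulAction.exists_smul_eq G S Q
  refine ⟨g, fun a ha => ?_⟩
  rw [← hg, Sylow.coe_subgroup_smul, Subgroup.mem_pointwise_smul_iff_inv_smul_mem]
  simpa [MulAut.smul_def, mul_assoc] using hS ha

omit [Finite G] in
theorem exists_orderOf_pow {q : ℕ} [Fact q.Prime] {A : Subgroup G} (hA : IsPGroup q A) {a : G}
    (ha : a ∈ A) : ∃ i, orderOf a = q ^ i := by
  obtain ⟨i, hi⟩ := hA ⟨a, ha⟩
  exact orderOf_eq_pow_of_pow_eq_one (congrArg Subtype.val hi)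

namespace Setup

variable {N : Subgroup G} {m r : ℕ} (T : Setup G N m r)
include T

/-- Primary subgroups of a mixed component. -/
theorem exists_prim {a : G} (ha : a ∈ N) (hac : a ∉ center G) (hmix : Mixed N r a)
    (hw : ∃ w ∈ N, w ∉ center G ∧ ∃ i, orderOf w = r ^ i) (s : ℕ) [Fact s.Prime] :
    ∃ A : Subgroup G, A ≤ comp N a ∧ IsPGroup s A ∧
      ∀ t, t ∈ A ↔ t ∈ comp N a ∧ ∃ i, orderOf t = s ^ i := by
  obtain ⟨A, hA, hAc, hAm⟩ :=
    ClassSizeIto.EqPart.exists_primary (comp N a) (T.mixed_facts ha hac hmix hw).2 s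
  refine ⟨A, hA, IsPGroup.of_card hAc, fun t => (hAm t).trans ⟨?_, ?_⟩⟩
  · rintro ⟨h1, i, hi⟩
    exact ⟨h1, orderOf_eq_pow_of_pow_eq_one hi⟩
  · rintro ⟨h1, i, hi⟩
    exact ⟨h1, i, by rw [← hi, pow_orderOf_eq_one]⟩

/-- An orbit bound. -/
theorem relIndex_lt {a b : G} {A S : Subgroup G} {s t : ℕ} [Fact s.Prime] [Fact t.Prime]
    (hst : s ≠ t) (hS : IsPGroup s S) (hbA : b ∈ A) (hbc : b ∉ center G) (hA : IsPGroup t A)
    (hC : centralizer ({b} : Set G) = centralizer ({a} : Set G))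
    (hconj : ∀ g ∈ S, g * b * g⁻¹ ∈ A) :
    (centralizer ({a} : Set G)).relIndex S < (center G).relIndex A := by
  classical
  set C := centralizer ({a} : Set G) with hCdef
  let F : S ⧸ C.subgroupOf S → A ⧸ (center G).subgroupOf A := fun c => Quotient.liftOn' c
    (fun g : S => (QuotientGroup.mk (⟨(g : G) * b * (g : G)⁻¹, hconj g g.2⟩ : A) :
      A ⧸ (center G).subgroupOf A)) (by
      intro g g' hgg
      rw [QuotientGroup.leftRel_apply, mem_subgroupOf] at hgg
      rw [← hC, mem_cent_iff_conj] at hgg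
      congr 1
      apply Subtype.ext
      show (g : G) * b * (g : G)⁻¹ = g' * b * (g' : G)⁻¹
      calc (g : G) * b * (g : G)⁻¹ =
            g * (((g⁻¹ * g' : S) : G) * b * ((g⁻¹ * g' : S) : G)⁻¹) * (g : G)⁻¹ := by rw [hgg]
        _ = g' * b * (g' : G)⁻¹ := by rw [Subgroup.coe_mul, Subgroup.coe_inv]; group)
  have hco : ∀ u : S, (orderOf (u : G)).Coprime (orderOf b) := by
    intro u
    obtain ⟨i, hi⟩ := exists_orderOf_pow hS u.2
    obtain ⟨j, hj⟩ := exists_orderOf_pow hA hbA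
    rw [hi, hj]
    exact (((Nat.coprime_primes Fact.out Fact.out).2 hst).pow_left _).pow_right _
  have hinj : Function.Injective F := by
    intro c c'
    induction c using QuotientGroup.induction_on with
    | _ g =>
      induction c' using QuotientGroup.induction_on with
      | _ g' =>
        intro e
        have e' := mem_subgroupOf.1 (QuotientGroup.eq.1 e)
        rw [Subgroup.coe_mul, Subgroup.coe_inv] at e'
        rw [QuotientGroup.eq, mem_subgroupOf, ← hC]
        have h1 : (((g⁻¹ * g' : S) : G)) * b * (((g⁻¹ * g' : S) : G))⁻¹ * b⁻¹ ∈ center G := by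
          have hcen := Subgroup.Normal.conj_mem inferInstance _ e' ((g : G)⁻¹)
          have h2 : b⁻¹ * ((g : G)⁻¹ * g' * b * ((g : G)⁻¹ * g')⁻¹) ∈ center G := by
            convert hcen using 1
            simp only [inv_inv]
            group
          rw [Subgroup.coe_mul, Subgroup.coe_inv]
          have h3 := Subgroup.Normal.conj_mem inferInstance _ h2 b
          convert h3 using 1
          group
        exact mem_cent.2 (ClassSizeIto.commute_of_mod_center h1 (hco _))
  haveI := Fintype.ofFinite (S ⧸ C.subgroupOf S)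
  haveI := Fintype.ofFinite (A ⧸ (center G).subgroupOf A)
  show (C.subgroupOf S).index < ((center G).subgroupOf A).index
  rw [index_eq_card, index_eq_card, Nat.card_eq_fintype_card, Nat.card_eq_fintype_card]
  refine Fintype.card_lt_of_injective_of_notMem F hinj (b := ((1 : A) : A ⧸ (center G).subgroupOf A)) ?_
  rintro ⟨c, hc⟩
  induction c using QuotientGroup.induction_on with
  | _ g =>
    have h1 := mem_subgroupOf.1 (QuotientGroup.eq.1 hc)
    rw [mul_one, Subgroup.coe_inv, inv_mem_iff] at h1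
    apply hbc
    simpa [mul_assoc] using Subgroup.Normal.conj_mem inferInstance _ h1 (g : G)⁻¹

/-- The Sylow subgroups of two centralisers. -/
theorem exists_cent_sylow {v y : G} (hv : v ∈ N) (hvc : v ∉ center G) (hy : y ∈ N)
    (hyc : y ∉ center G) {q : ℕ} [Fact q.Prime] (Q : Sylow q G) :
    ∃ (B : Subgroup G) (g : G), B ≤ (Q : Subgroup G) ∧
      B ≤ centralizer ({g * v * g⁻¹} : Set G) ∧
      B.relIndex (Q : Subgroup G) ≤ (centralizer ({y} : Set G)).relIndex (Q : Subgroup G) := by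
  set C := centralizer ({v} : Set G)
  obtain ⟨P⟩ : Nonempty (Sylow q C) := inferInstance
  obtain ⟨g, hg⟩ := exists_conj_le Q (P.isPGroup'.map C.subtype)
  set φ := (MulAut.conj g).toMonoidHom
  refine ⟨((P : Subgroup C).map C.subtype).map φ, g, ?_, ?_, ?_⟩
  · rintro _ ⟨a, ha, rfl⟩; exact hg a ha
  · rw [cent_conj]; exact map_mono (map_subtype_le _)
  · set B := ((P : Subgroup C).map C.subtype).map φ with hB
    set D := centralizer ({y} : Set G) ⊓ (Q : Subgroup G)
    have hBQ : B ≤ (Q : Subgroup G) := by rintro _ ⟨a, ha, rfl⟩; exact hg a ha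
    have hBc : Nat.card B = q ^ (Nat.card C).factorization q := by
      rw [hB, card_map_of_injective (MulAut.conj g).injective,
        card_map_of_injective C.subtype_injective, P.card_eq_multiplicity]
    have hCy : Nat.card C = Nat.card (centralizer ({y} : Set G)) := by
      have h1 := C.card_mul_index
      have h2 := (centralizer ({y} : Set G)).card_mul_index
      rw [show C.index = (centralizer ({y} : Set G)).index from
        (T.hm v hv hvc).trans (T.hm y hy hyc).symm] at h1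
      exact Nat.eq_of_mul_eq_mul_right (idx_pos y) (h1.trans h2.symm)
    have hD : Nat.card D ≤ Nat.card B := by
      obtain ⟨e, he⟩ := IsPGroup.iff_card.1
        (Q.isPGroup'.to_le (inf_le_right : D ≤ (Q : Subgroup G)))
      have hd : Nat.card D ∣ Nat.card (centralizer ({y} : Set G)) := card_dvd_of_le inf_le_left
      rw [he] at hd ⊢
      rw [hBc, hCy]
      exact Nat.pow_le_pow_right (Fact.out : q.Prime).pos
        (((Fact.out : q.Prime).pow_dvd_iff_le_factorization Nat.card_pos.ne').1 hd)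
    have h1 := card_eq_card_inf_mul (Q : Subgroup G) B
    have h2 := card_eq_card_inf_mul (Q : Subgroup G) (centralizer ({y} : Set G))
    rw [inf_of_le_left hBQ] at h1
    by_contra h3
    have := Nat.mul_lt_mul_of_le_of_lt hD (not_le.1 h3) Nat.card_pos
    rw [h1, h2] at this
    exact lt_irrefl _ this

/-- No element of a pure component is normalised in this way. -/
theorem false_of_pure {x y : G} (hx : x ∈ N) (hxc : x ∉ center G) (hy : y ∈ N)
    (hyc : y ∉ center G) {q : ℕ} [Fact q.Prime] (hqr : q ≠ r) (Q : Sylow q G)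
    (hyQ : ∀ g ∈ (Q : Subgroup G), g * y * g⁻¹ * y⁻¹ ∈ center G)
    (hyq : ∃ i, orderOf y = q ^ i) (hw : ∃ w ∈ N, w ∉ center G ∧ ∃ i, orderOf w = r ^ i)
    (hxmix : ¬ Mixed N r x)
    (hxy : ∀ c ∈ comp N y, (∃ i, orderOf c = r ^ i) → x * c * x⁻¹ * c⁻¹ ∈ center G) : False := by
  classical
  haveI := Fact.mk T.hr
  haveI := T.hN
  have hymix : Mixed N r y :=
    ⟨q, Fact.out, hqr, y, mem_inf.2 ⟨hy, mem_cent.2 rfl⟩, hyc, hyq⟩
  obtain ⟨hCall, hCcomm⟩ := T.mixed_facts hy hyc hymix hw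
  set C := comp N y with hCdef
  obtain ⟨c₀, hc₀, hc₀c, hc₀r⟩ := T.exists_r_element hy hyc hw
  have hc₀C := hCall c₀ hc₀ hc₀c
  obtain ⟨A, hAC, hAq, hAm⟩ := T.exists_prim hy hyc hymix hw q
  have hyA : y ∈ A := (hAm y).2 ⟨mem_inf.2 ⟨hy, mem_cent.2 rfl⟩, hyq⟩
  have hxC : x ∉ C := by
    intro hxC
    exact hxmix ⟨q, Fact.out, hqr, y, mem_inf.2 ⟨hy, mem_cent.2
      (mem_cent.1 (mem_inf.1 hxC).2).symm⟩, hyc, hyq⟩
  -- elements acting trivially on the `r`-part modulo the centre
  let K : Subgroup G :=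
    { carrier := {k | k ∈ N ∧ (∀ c, k * c * k⁻¹ ∈ C ↔ c ∈ C) ∧
        ∀ c ∈ C, (∃ i, orderOf c = r ^ i) → k * c * k⁻¹ * c⁻¹ ∈ center G}
      one_mem' := ⟨N.one_mem, fun c => by simp, fun c _ _ => by simp⟩
      mul_mem' := fun {k k'} hk hk' => ⟨N.mul_mem hk.1 hk'.1,
        fun c => by
          rw [show k * k' * c * (k * k')⁻¹ = k * (k' * c * k'⁻¹) * k⁻¹ by group, hk.2.1, hk'.2.1],
        fun c hc hcr => by
          have h1 := hk'.2.2 c hc hcr
          have h2 := hk.2.2 c hc hcr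
          have e : k * k' * c * (k * k')⁻¹ * c⁻¹ =
              (k * (k' * c * k'⁻¹ * c⁻¹) * k⁻¹) * (k * c * k⁻¹ * c⁻¹) := by group
          rw [e]
          exact mul_mem (Subgroup.Normal.conj_mem inferInstance _ h1 k) h2⟩
      inv_mem' := fun {k} hk => ⟨N.inv_mem hk.1,
        fun c => by
          rw [← hk.2.1 (k⁻¹ * c * k⁻¹⁻¹), show k * (k⁻¹ * c * k⁻¹⁻¹) * k⁻¹ = c by group],
        fun c hc hcr => by
          have h2 := Subgroup.Normal.conj_mem inferInstance _ (inv_mem (hk.2.2 c hc hcr)) k⁻¹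
          have h3 : k⁻¹ * c * k * c⁻¹ ∈ center G := by
            have h4 := Subgroup.Normal.conj_mem inferInstance _ h2 c
            have e : c * (k⁻¹ * (k * c * k⁻¹ * c⁻¹)⁻¹ * k⁻¹⁻¹) * c⁻¹ =
                c * k⁻¹ * c * k * c⁻¹ * c⁻¹ := by group
            rw [e] at h4
            have h5 := Subgroup.Normal.conj_mem inferInstance _ h4 c⁻¹
            convert h5 using 1
            group
          rwa [inv_inv]⟩ }
  have hCK : C ≤ K := fun k hk => ⟨(mem_inf.1 hk).1,
    fun c => ⟨fun h => by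
      have := mul_mem (mul_mem (inv_mem hk) h) hk
      simpa [mul_assoc] using this, fun h => mul_mem (mul_mem hk h) (inv_mem hk)⟩,
    fun c hc _ => by rw [hCcomm k hk c hc]; simp⟩
  have hnormx : ∀ c, x * c * x⁻¹ ∈ C ↔ c ∈ C := by
    intro c
    have h1 := hxy c₀ hc₀ hc₀r
    have e : x * c₀ * x⁻¹ = (x * c₀ * x⁻¹ * c₀⁻¹) * c₀ := by group
    have hCx : centralizer ({x * c₀ * x⁻¹} : Set G) = centralizer ({y} : Set G) := by
      rw [e, cent_mul_central h1, hc₀C]
    have h2 := conj_mem_comp_iff (N := N) x c₀ c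
    rw [comp, comp, hCx, hc₀C] at h2
    exact h2
  have hxK : x ∈ K := ⟨hx, hnormx, fun c hc hcr => hxy c hc hcr⟩
  -- stabiliser of `y` in `K`
  have hstab : ∀ k ∈ K, k * y * k⁻¹ * y⁻¹ ∈ center G → k ∈ C := by
    intro k hk hky
    obtain ⟨k1, k2, hke, -, ⟨i, hi⟩, hk2, hz1, hz2⟩ := ClassSize.exists_pParts (p := r) k
    have hk1K : k1 ∈ K := (zpowers_le.2 hk) hz1
    have hk2K : k2 ∈ K := (zpowers_le.2 hk) hz2
    obtain ⟨j, hj⟩ := hc₀r
    have h2C : k2 ∈ C := by
      refine mem_inf.2 ⟨hk2K.1, ?_⟩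
      rw [← hc₀C]
      refine mem_cent.2 (ClassSizeIto.commute_of_mod_center (hk2K.2.2 c₀ hc₀ ⟨j, hj⟩) ?_)
      rw [hj]; exact hk2.pow_right j
    have h1y : k1 * y * k1⁻¹ * y⁻¹ ∈ center G := by
      have hk2y : k2 * y = y * k2 := mem_cent.1 (mem_inf.1 h2C).2
      have e : k1 * y * k1⁻¹ = k * y * k⁻¹ := by
        rw [hke, show k1 * k2 * y * (k1 * k2)⁻¹ = k1 * (k2 * y * k2⁻¹) * k1⁻¹ by group, hk2y,
          mul_inv_cancel_right]
      rwa [e]
    have h1C : k1 ∈ C := by
      refine mem_inf.2 ⟨hk1K.1, mem_cent.2 (ClassSizeIto.commute_of_mod_center h1y ?_)⟩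
      obtain ⟨e, he⟩ := hyq
      rw [hi, he]
      exact (((Nat.coprime_primes T.hr Fact.out).2 hqr.symm).pow_left _).pow_right _
    exact hke ▸ mul_mem h1C h2C
  -- `K / C` is small
  have hK1 : C.relIndex K < (center G).relIndex A := by
    have hconjA : ∀ k : K, (k : G) * y * (k : G)⁻¹ ∈ A := fun k => by
      obtain ⟨h1, i, hi⟩ := (hAm y).1 hyA
      refine (hAm _).2 ⟨(k.2.2.1 y).2 h1, i, ?_⟩
      rw [← hi]
      exact orderOf_injective (MulAut.conj (k : G)).toMonoidHom (MulAut.conj (k : G)).injective y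
    let F : K ⧸ C.subgroupOf K → A ⧸ (center G).subgroupOf A := fun c => Quotient.liftOn' c
      (fun k : K => (QuotientGroup.mk (⟨_, hconjA k⟩ : A) : A ⧸ (center G).subgroupOf A)) (by
        intro g g' hgg
        rw [QuotientGroup.leftRel_apply, mem_subgroupOf] at hgg
        have h := mem_cent_iff_conj.1 (mem_inf.1 hgg).2
        rw [Subgroup.coe_mul, Subgroup.coe_inv] at h
        congr 1
        apply Subtype.ext
        show (g : G) * y * (g : G)⁻¹ = g' * y * (g' : G)⁻¹
        calc (g : G) * y * (g : G)⁻¹ =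
              g * ((g : G)⁻¹ * g' * y * ((g : G)⁻¹ * g')⁻¹) * (g : G)⁻¹ := by rw [h]
          _ = g' * y * (g' : G)⁻¹ := by group)
    have hinj : Function.Injective F := by
      intro c c'
      induction c using QuotientGroup.induction_on with
      | _ g =>
        induction c' using QuotientGroup.induction_on with
        | _ g' =>
          intro e
          have e' := mem_subgroupOf.1 (QuotientGroup.eq.1 e)
          rw [Subgroup.coe_mul, Subgroup.coe_inv] at e'
          rw [QuotientGroup.eq, mem_subgroupOf]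
          refine hstab _ (g⁻¹ * g').2 ?_
          have hcen := Subgroup.Normal.conj_mem inferInstance _ e' ((g : G)⁻¹)
          have h3 := Subgroup.Normal.conj_mem inferInstance _ hcen y
          rw [Subgroup.coe_mul, Subgroup.coe_inv]
          convert h3 using 1
          group
    haveI := Fintype.ofFinite (K ⧸ C.subgroupOf K)
    haveI := Fintype.ofFinite (A ⧸ (center G).subgroupOf A)
    show (C.subgroupOf K).index < ((center G).subgroupOf A).index
    rw [index_eq_card, index_eq_card, Nat.card_eq_fintype_card, Nat.card_eq_fintype_card]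
    refine Fintype.card_lt_of_injective_of_notMem F hinj
      (b := ((1 : A) : A ⧸ (center G).subgroupOf A)) ?_
    rintro ⟨c, hc⟩
    induction c using QuotientGroup.induction_on with
    | _ g =>
      have h1 := mem_subgroupOf.1 (QuotientGroup.eq.1 hc)
      rw [mul_one, Subgroup.coe_inv, inv_mem_iff] at h1
      apply hyc
      simpa [mul_assoc] using Subgroup.Normal.conj_mem inferInstance _ h1 (g : G)⁻¹
  -- the orbit of `x` under `Q`
  have hQn : ∀ g ∈ (Q : Subgroup G), ∀ c, c ∈ C → g * c * g⁻¹ ∈ C := fun g hg c hc =>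
    conj_mem_comp (hyQ g hg) hc
  have hQK : ∀ g : (Q : Subgroup G), (g : G) * x * (g : G)⁻¹ ∈ K := by
    intro g
    have hgi := inv_mem g.2
    refine ⟨T.hN.conj_mem x hx g, fun c => ?_, fun c hc hcr => ?_⟩
    · rw [show (g : G) * x * (g : G)⁻¹ * c * ((g : G) * x * (g : G)⁻¹)⁻¹ =
          (g : G) * (x * ((g : G)⁻¹ * c * g) * x⁻¹) * (g : G)⁻¹ by group]
      constructor
      · intro h
        have h1 := hQn _ hgi _ h
        have h2 : x * ((g : G)⁻¹ * c * g) * x⁻¹ ∈ C := by simpa [mul_assoc] using h1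
        have h3 := hQn _ g.2 _ ((hnormx _).1 h2)
        simpa [mul_assoc] using h3
      · intro h
        have h1 : (g : G)⁻¹ * c * g ∈ C := by simpa using hQn _ hgi c h
        exact hQn _ g.2 _ ((hnormx _).2 h1)
    · have h1 : (g : G)⁻¹ * c * g ∈ C := by simpa using hQn _ hgi c hc
      have h2 := hxy _ h1 (by
        obtain ⟨i, hi⟩ := hcr
        refine ⟨i, ?_⟩
        rw [← hi]
        simpa using orderOf_injective (MulAut.conj (g : G)⁻¹).toMonoidHom
          (MulAut.conj (g : G)⁻¹).injective c)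
      have h3 := Subgroup.Normal.conj_mem inferInstance _ h2 (g : G)
      convert h3 using 1
      group
  let F : (Q : Subgroup G) ⧸ (centralizer ({y} : Set G)).subgroupOf Q → K ⧸ C.subgroupOf K := fun c => Quotient.liftOn' c
    (fun g : (Q : Subgroup G) => (QuotientGroup.mk (⟨_, hQK g⟩ : K) : K ⧸ C.subgroupOf K)) (by
      intro g g' hgg
      rw [QuotientGroup.leftRel_apply, mem_subgroupOf, Subgroup.coe_mul, Subgroup.coe_inv] at hgg
      apply QuotientGroup.eq.2
      rw [mem_subgroupOf, Subgroup.coe_mul, Subgroup.coe_inv]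
      -- `u = g⁻¹ g'` centralises `C`'s centraliser
      set u := (g : G)⁻¹ * g' with hu
      have huc : ∀ c ∈ C, u * c = c * u := by
        intro c hc
        by_cases hcc : c ∈ center G
        · exact mem_center_iff.1 hcc u
        · have : u ∈ centralizer ({c} : Set G) := by rw [hCall c hc hcc]; exact hgg
          exact mem_cent.1 this
      have huQ : u ∈ (Q : Subgroup G) := mul_mem (inv_mem g.2) g'.2
      -- `x⁻¹ u x u⁻¹` centralises the `r`-element `c₀`
      have hmem : x⁻¹ * (u * x * u⁻¹) ∈ C := by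
        refine mem_inf.2 ⟨N.mul_mem (N.inv_mem hx) (T.hN.conj_mem x hx u), ?_⟩
        rw [← hc₀C, mem_cent_iff_conj]
        have h1 := hxy c₀ hc₀ hc₀r
        set z := x * c₀ * x⁻¹ * c₀⁻¹ with hz
        have hxc0 : x * c₀ * x⁻¹ = z * c₀ := by rw [hz]; group
        clear_value z
        have huc0 : u⁻¹ * c₀ * u = c₀ := by
          rw [mul_assoc, ← huc c₀ hc₀, inv_mul_cancel_left]
        calc x⁻¹ * (u * x * u⁻¹) * c₀ * (x⁻¹ * (u * x * u⁻¹))⁻¹
            = x⁻¹ * (u * (x * (u⁻¹ * c₀ * u) * x⁻¹) * u⁻¹) * x := by group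
          _ = x⁻¹ * (u * (z * c₀) * u⁻¹) * x := by rw [huc0, hxc0]
          _ = x⁻¹ * (z * (u * c₀ * u⁻¹)) * x := by
              rw [← mul_assoc u z, mem_center_iff.1 h1 u]; group
          _ = x⁻¹ * (z * c₀) * x := by rw [huc c₀ hc₀, mul_inv_cancel_right]
          _ = c₀ := by rw [← hxc0]; group
      have h2 := hQn _ g.2 _ hmem
      convert h2 using 1
      rw [hu]
      group)
  have hinjF : Function.Injective F := by
    intro c c'
    induction c using QuotientGroup.induction_on with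
    | _ g =>
      induction c' using QuotientGroup.induction_on with
      | _ g' =>
        intro e
        have e' := mem_subgroupOf.1 (QuotientGroup.eq.1 e)
        rw [Subgroup.coe_mul, Subgroup.coe_inv] at e'
        rw [QuotientGroup.eq, mem_subgroupOf, Subgroup.coe_mul, Subgroup.coe_inv]
        set u := (g : G)⁻¹ * g' with hu
        have huQ : u ∈ (Q : Subgroup G) := mul_mem (inv_mem g.2) g'.2
        have hd : x⁻¹ * (u * x * u⁻¹) ∈ C := by
          have h2 : (g : G)⁻¹ * (((g : G) * x * (g : G)⁻¹)⁻¹ * ((g' : G) * x * (g' : G)⁻¹)) * g ∈ C := by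
            simpa using hQn _ (inv_mem g.2) _ e'
          convert h2 using 1
          rw [hu]
          group
        set d := x⁻¹ * (u * x * u⁻¹) with hdd
        have hux : u * x * u⁻¹ = x * d := by rw [hdd]; group
        clear_value d
        set c' := u⁻¹ * c₀ * u with hc'
        have hc'C : c' ∈ C := by simpa [hc'] using hQn _ (inv_mem huQ) c₀ hc₀
        have hc'r : ∃ i, orderOf c' = r ^ i := by
          obtain ⟨i, hi⟩ := hc₀r
          refine ⟨i, ?_⟩
          rw [← hi, hc']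
          simpa using orderOf_injective (MulAut.conj u⁻¹).toMonoidHom (MulAut.conj u⁻¹).injective c₀
        have h1 := hxy c₀ hc₀ hc₀r
        have h1' := hxy c' hc'C hc'r
        have hkey : x * c' * x⁻¹ * c'⁻¹ = x * c₀ * x⁻¹ * c₀⁻¹ := by
          have e1 : u * (x * c' * x⁻¹ * c'⁻¹) * u⁻¹ = x * c₀ * x⁻¹ * c₀⁻¹ := by
            calc u * (x * c' * x⁻¹ * c'⁻¹) * u⁻¹
                = (u * x * u⁻¹) * c₀ * (u * x * u⁻¹)⁻¹ * c₀⁻¹ := by rw [hc']; group
              _ = x * (d * c₀ * d⁻¹) * x⁻¹ * c₀⁻¹ := by rw [hux]; group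
              _ = x * c₀ * x⁻¹ * c₀⁻¹ := by rw [hCcomm d hd c₀ hc₀, mul_inv_cancel_right]
          rwa [mem_center_iff.1 h1' u, mul_inv_cancel_right] at e1
        -- `c₀⁻¹ c'` is fixed by `x`
        set v := c₀⁻¹ * c' with hv
        have hvC : v ∈ C := mul_mem (inv_mem hc₀) hc'C
        have hvfix : x * v * x⁻¹ = v := by
          set z := x * c₀ * x⁻¹ * c₀⁻¹ with hz
          have a1 : x * c₀ * x⁻¹ = z * c₀ := by rw [hz]; group
          have a2 : x * c' * x⁻¹ = z * c' := by rw [← hkey]; group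
          calc x * v * x⁻¹ = (x * c₀ * x⁻¹)⁻¹ * (x * c' * x⁻¹) := by rw [hv]; group
            _ = (z * c₀)⁻¹ * (z * c') := by rw [a1, a2]
            _ = v := by rw [hv]; group
        have hvZ : v ∈ center G := by
          by_contra hvc
          apply hxC
          refine mem_inf.2 ⟨hx, ?_⟩
          rw [← hCall v hvC hvc]
          exact mem_cent_iff_conj.2 hvfix
        have hco : (orderOf u⁻¹).Coprime (orderOf c₀) := by
          obtain ⟨i, hi⟩ := exists_orderOf_pow Q.isPGroup' huQ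
          obtain ⟨j, hj⟩ := hc₀r
          rw [orderOf_inv, hi, hj]
          exact (((Nat.coprime_primes Fact.out T.hr).2 hqr).pow_left _).pow_right _
        have hcm : u⁻¹ * c₀ * u⁻¹⁻¹ * c₀⁻¹ ∈ center G := by
          have h3 := Subgroup.Normal.conj_mem inferInstance _ hvZ c₀
          convert h3 using 1
          rw [hv, hc']
          group
        have h4 := ClassSizeIto.commute_of_mod_center hcm hco
        have h5 : u⁻¹ ∈ centralizer ({c₀} : Set G) := mem_cent.2 h4
        rw [← hc₀C]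
        exact inv_mem_iff.1 h5
  have hK2 : (centralizer ({y} : Set G)).relIndex (Q : Subgroup G) < C.relIndex K := by
    haveI := Fintype.ofFinite ((Q : Subgroup G) ⧸ (centralizer ({y} : Set G)).subgroupOf Q)
    haveI := Fintype.ofFinite (K ⧸ C.subgroupOf K)
    show ((centralizer ({y} : Set G)).subgroupOf (Q : Subgroup G)).index < (C.subgroupOf K).index
    rw [index_eq_card, index_eq_card, Nat.card_eq_fintype_card, Nat.card_eq_fintype_card]
    refine Fintype.card_lt_of_injective_of_notMem F hinjF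
      (b := ((1 : K) : K ⧸ C.subgroupOf K)) ?_
    rintro ⟨c, hc⟩
    induction c using QuotientGroup.induction_on with
    | _ g =>
      have h1 := mem_subgroupOf.1 (QuotientGroup.eq.1 hc)
      rw [mul_one, Subgroup.coe_inv, inv_mem_iff] at h1
      have h2 := hQn _ (inv_mem g.2) _ h1
      apply hxC
      simpa [mul_assoc] using h2
  -- the Sylow subgroup of `C(x)` misses `N`
  obtain ⟨B, g, hBQ, hBg, hBi⟩ := T.exists_cent_sylow hx hxc hy hyc Q
  have hAQ : A ≤ (Q : Subgroup G) := le_sylow_of_conj_mem Q hAq fun g hg a ha => by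
    obtain ⟨h1, i, hi⟩ := (hAm a).1 ha
    refine (hAm _).2 ⟨hQn g hg a h1, i, ?_⟩
    rw [← hi]
    exact orderOf_injective (MulAut.conj g).toMonoidHom (MulAut.conj g).injective a
  have hle : (center G).relIndex A ≤ B.relIndex (Q : Subgroup G) := by
    refine relIndex_center_le hAQ hBQ fun t ht => by_contra fun htc => hxmix ?_
    obtain ⟨htA, htB⟩ := mem_inf.1 ht
    have h1 := hBg htB
    rw [cent_conj] at h1
    obtain ⟨t', ht', he⟩ := h1
    have he' : g * t' * g⁻¹ = t := he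
    have htN : t ∈ N := (mem_inf.1 ((hAm t).1 htA).1).1
    have ht'N : t' ∈ N := by
      have := T.hN.conj_mem t htN g⁻¹
      rw [← he'] at this
      simpa [mul_assoc] using this
    refine ⟨q, Fact.out, hqr, t', mem_inf.2 ⟨ht'N, ht'⟩, fun h => htc ?_, ?_⟩
    · rw [← he']; exact Subgroup.Normal.conj_mem inferInstance _ h g
    · obtain ⟨i, hi⟩ := ((hAm t).1 htA).2
      exact ⟨i, by rw [← hi, ← he']; exact (orderOf_injective (MulAut.conj g).toMonoidHom
        (MulAut.conj g).injective t').symm⟩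
  omega

/-- Sizes against the centraliser of an element without conjugates in a component. -/
theorem relIndex_le_of_not_conj {a v y : G} (ha : a ∈ N) (hac : a ∉ center G) {A : Subgroup G}
    (hA : A ≤ comp N a)
    (hC : ∀ c ∈ comp N a, c ∉ center G → centralizer ({c} : Set G) = centralizer ({a} : Set G))
    {s : ℕ} [Fact s.Prime] {S : Sylow s G} (hAS : A ≤ (S : Subgroup G))
    (hv : v ∈ N) (hvc : v ∉ center G) (hno : ∀ h : G, h * v * h⁻¹ ∉ comp N a)
    (hy : y ∈ N) (hyc : y ∉ center G) :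
    (center G).relIndex A ≤ (centralizer ({y} : Set G)).relIndex (S : Subgroup G) := by
  obtain ⟨B, g, hBS, hBg, hBi⟩ := T.exists_cent_sylow hv hvc hy hyc S
  refine (relIndex_center_le hAS hBS fun t ht => by_contra fun htc => ?_).trans hBi
  obtain ⟨htA, htB⟩ := mem_inf.1 ht
  apply hno g
  refine mem_inf.2 ⟨T.hN.conj_mem v hv g, ?_⟩
  rw [← hC t (hA htA) htc]
  exact mem_cent.2 (mem_cent.1 (hBg htB)).symm

theorem relIndex_le_of_not_conj' {a v y : G} (ha : a ∈ N) (hac : a ∉ center G) {A : Subgroup G}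
    (hA : A ≤ comp N a) {s : ℕ} [Fact s.Prime] (hAp : IsPGroup s A)
    (hC : ∀ c ∈ comp N a, c ∉ center G → centralizer ({c} : Set G) = centralizer ({a} : Set G))
    (S : Sylow s G)
    (hv : v ∈ N) (hvc : v ∉ center G) (hno : ∀ h : G, h * v * h⁻¹ ∉ comp N a)
    (hy : y ∈ N) (hyc : y ∉ center G) :
    (center G).relIndex A ≤ (centralizer ({y} : Set G)).relIndex (S : Subgroup G) := by
  haveI := T.hN
  obtain ⟨g, hg⟩ := exists_conj_le S hAp
  set φ := (MulAut.conj g).toMonoidHom with hφ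
  have ez : (center G).map φ = center G := by
    ext t
    rw [Subgroup.mem_map]
    constructor
    · rintro ⟨c, hc, rfl⟩
      exact Subgroup.Normal.conj_mem inferInstance _ hc g
    · intro ht
      refine ⟨t, ht, ?_⟩
      show g * t * g⁻¹ = t
      rw [mem_center_iff.1 ht g, mul_inv_cancel_right]
  rw [← relIndex_map_map_of_injective (f := φ) (center G) A (MulAut.conj g).injective, ez]
  have hga : g * a * g⁻¹ ∈ N := T.hN.conj_mem a ha g
  refine T.relIndex_le_of_not_conj (a := g * a * g⁻¹) hga ?_ ?_ ?_ ?_ hv hvc ?_ hy hyc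
  · intro h
    exact hac (by simpa [mul_assoc] using Subgroup.Normal.conj_mem inferInstance _ h g⁻¹)
  · rintro _ ⟨t, ht, rfl⟩
    exact (conj_mem_comp_iff g a t).2 (hA ht)
  · intro c hc hcc
    have h1 : g⁻¹ * c * g ∈ comp N a := by
      rw [← conj_mem_comp_iff (N := N) g a]
      simpa [mul_assoc] using hc
    have h2 := hC _ h1 (fun h => hcc (by
      simpa [mul_assoc] using Subgroup.Normal.conj_mem inferInstance _ h g))
    rw [cent_conj, show centralizer ({c} : Set G) =
      (centralizer ({g⁻¹ * c * g} : Set G)).map φ by rw [← cent_conj]; congr 2; group, h2]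
  · rintro _ ⟨t, ht, rfl⟩
    exact hg t ht
  · intro h hh
    apply hno (g⁻¹ * h)
    rw [← conj_mem_comp_iff (N := N) g a]
    simpa [mul_assoc] using hh

/-- Sizes against a conjugate component. -/
theorem relIndex_le_of_conj {a : G} (ha : a ∈ N) (hac : a ∉ center G) {A : Subgroup G}
    {s : ℕ} [Fact s.Prime]
    (hC : ∀ c ∈ comp N a, c ∉ center G → centralizer ({c} : Set G) = centralizer ({a} : Set G))
    (hAm : ∀ t, t ∈ A ↔ t ∈ comp N a ∧ ∃ i, orderOf t = s ^ i)
    {S : Sylow s G} (hAS : A ≤ (S : Subgroup G)) {h : G}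
    (hh : ∀ n ∈ N, n * (h * a * h⁻¹) * n⁻¹ ∉ comp N a) :
    (center G).relIndex A ≤ (centralizer ({a} : Set G)).relIndex (S : Subgroup G) := by
  haveI := T.hN
  set SN := (S : Subgroup G) ⊓ N
  have hAN : A ≤ SN := le_inf hAS fun t ht => (mem_inf.1 ((hAm t).1 ht).1).1
  have hpSN : IsPGroup s SN := S.isPGroup'.to_le inf_le_left
  have hidx : ¬ s ∣ (SN.subgroupOf N).index := by
    show ¬ s ∣ SN.relIndex N
    rw [inf_relIndex_right]
    exact fun hd => S.not_dvd_index (hd.trans (relIndex_dvd_index_of_normal' _ N))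
  let P : Sylow s N :=
    (hpSN.of_equiv (subgroupOfEquivOfLe (inf_le_right : SN ≤ N)).symm).toSylow hidx
  -- move the conjugate part into `S ∩ N` inside `N`
  have hApg : IsPGroup s A := hpSN.to_le hAN
  set A' := A.map (MulAut.conj h).toMonoidHom
  have hA'N : A' ≤ N := by
    rintro _ ⟨t, ht, rfl⟩
    exact T.hN.conj_mem t (mem_inf.1 ((hAm t).1 ht).1).1 h
  obtain ⟨P', hP'⟩ := ((hApg.map _).of_equiv (subgroupOfEquivOfLe hA'N).symm).exists_le_sylow
  obtain ⟨n, hn⟩ := MulAction.exists_smul_eq N P' P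
  set B := A.map (MulAut.conj ((n : G) * h)).toMonoidHom with hB
  have hBS : B ≤ SN := by
    rintro _ ⟨t, ht, rfl⟩
    have h1 : (⟨h * t * h⁻¹, hA'N ⟨t, ht, rfl⟩⟩ : N) ∈ (P' : Subgroup N) :=
      hP' (mem_subgroupOf.2 ⟨t, ht, rfl⟩)
    have h2 : n * ⟨h * t * h⁻¹, hA'N ⟨t, ht, rfl⟩⟩ * n⁻¹ ∈ (P : Subgroup N) := by
      rw [← hn, Sylow.coe_subgroup_smul, Subgroup.mem_pointwise_smul_iff_inv_smul_mem]
      simpa [MulAut.smul_def, mul_assoc] using h1
    have h3 := mem_subgroupOf.1 h2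
    show (n : G) * h * t * ((n : G) * h)⁻¹ ∈ SN
    have h4 : (n : G) * (h * t * h⁻¹) * (n : G)⁻¹ ∈ SN := h3
    rw [show (n : G) * h * t * ((n : G) * h)⁻¹ = (n : G) * (h * t * h⁻¹) * (n : G)⁻¹ by group]
    exact h4
  have hint : A ⊓ B ≤ center G := by
    intro t ht
    by_contra htc
    obtain ⟨htA, htB⟩ := mem_inf.1 ht
    obtain ⟨t', ht', he⟩ := htB
    apply hh n n.2
    refine mem_inf.2 ⟨T.hN.conj_mem _ (T.hN.conj_mem a ha h) n, ?_⟩
    rw [← hC t ((hAm t).1 htA).1 htc]
    have h4 : t ∈ comp N ((n : G) * h * a * ((n : G) * h)⁻¹) := by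
      rw [← he]
      exact (conj_mem_comp_iff ((n : G) * h) a t').2 ((hAm t').1 ht').1
    rw [show (n : G) * (h * a * h⁻¹) * (n : G)⁻¹ = (n : G) * h * a * ((n : G) * h)⁻¹ by group]
    exact mem_cent.2 (mem_cent.1 (mem_inf.1 h4).2).symm
  have h1 := relIndex_center_le hAN hBS hint
  have h2 := card_eq_card_inf_mul SN A
  have h3 := card_eq_card_inf_mul SN B
  rw [inf_of_le_left hAN] at h2
  rw [inf_of_le_left hBS, show Nat.card B = Nat.card A from
    card_map_of_injective (MulAut.conj ((n : G) * h)).injective] at h3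
  rw [Nat.eq_of_mul_eq_mul_left Nat.card_pos (h3.trans h2.symm)] at h1
  refine h1.trans ?_
  refine le_trans (Nat.le_of_dvd (Nat.pos_of_ne_zero FiniteIndex.index_ne_zero)
    (?_ : A.relIndex SN ∣ (centralizer ({a} : Set G) ⊓ SN).relIndex SN)) ?_
  · refine relIndex_dvd_of_le_left SN fun t ht => ?_
    obtain ⟨ht1, ht2⟩ := mem_inf.1 ht
    exact (hAm t).2 ⟨mem_inf.2 ⟨(mem_inf.1 ht2).2, ht1⟩, exists_orderOf_pow hpSN ht2⟩
  · show (centralizer ({a} : Set G) ⊓ SN).relIndex SN ≤ _
    rw [inf_relIndex_right]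
    exact relIndex_le_of_le_right inf_le_left FiniteIndex.index_ne_zero

theorem isNilpotent (hw : ∃ w ∈ N, w ∉ center G ∧ ∃ i, orderOf w = r ^ i) :
    Group.IsNilpotent N := by
  classical
  haveI := Fact.mk T.hr
  haveI := T.hN
  by_cases hex : ∃ q : ℕ, q.Prime ∧ q ≠ r ∧ ∃ v ∈ N, v ∉ center G ∧ ∃ i, orderOf v = q ^ i
  swap
  · -- `N` is an `r`-group modulo the centre
    push Not at hex
    have hp : IsPGroup r (N ⧸ center N) := by
      intro a
      induction a using QuotientGroup.induction_on with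
      | _ a =>
        obtain ⟨u, v, he, huv, ⟨j, hj⟩, hv, -, hz2⟩ := ClassSize.exists_pParts (p := r) (a : G)
        refine ⟨j, ?_⟩
        rw [← QuotientGroup.mk_pow]
        refine (QuotientGroup.eq_one_iff _).2 ?_
        have hvN : v ∈ N := (zpowers_le.2 a.2) hz2
        have hvc : v ∈ center G := by
          by_contra hvc
          obtain ⟨s, hs, v', hv', hv'c, hv's, -, hz⟩ := T.exists_primary_part hvN hvc
          refine (hex s hs (fun hsr => ?_) v' hv' hv'c hv's.choose) hv's.choose_spec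
          apply hv'c
          obtain ⟨i, hi⟩ := hv's
          have hd : orderOf v' ∣ orderOf v := by
            obtain ⟨l, rfl⟩ := hz
            refine orderOf_dvd_of_pow_eq_one ?_
            show (v ^ l) ^ orderOf v = 1
            rw [← zpow_natCast, ← zpow_mul, mul_comm, zpow_mul, zpow_natCast, pow_orderOf_eq_one,
              one_zpow]
          rw [hi, hsr] at hd
          have h1 : orderOf v' = 1 := by
            rw [hi, hsr]; exact Nat.eq_one_of_dvd_coprimes (hv.pow_right i) hd dvd_rfl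
          rw [orderOf_eq_one_iff.1 h1]
          exact one_mem _
        rw [mem_center_iff]
        intro b
        apply Subtype.ext
        rw [Subgroup.coe_mul, Subgroup.coe_mul, SubgroupClass.coe_pow, he, huv.mul_pow, ← hj,
          pow_orderOf_eq_one, one_mul]
        exact mem_center_iff.1 (pow_mem hvc _) b
    exact Group.of_quotient_center_nilpotent hp.isNilpotent
  obtain ⟨q₀, hq₀, hq₀r, v₀, hv₀, hv₀c, hv₀q⟩ := hex
  -- for each prime with noncentral elements a component fixed by a Sylow subgroup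
  have hfix : ∀ (q : ℕ) [Fact q.Prime] (Q : Sylow q G),
      (∃ v ∈ N, v ∉ center G ∧ ∃ i, orderOf v = q ^ i) →
      ∃ y ∈ N, y ∉ center G ∧ (∃ i, orderOf y = q ^ i) ∧
        ∀ g ∈ (Q : Subgroup G), g * y * g⁻¹ * y⁻¹ ∈ center G := by
    rintro q hq Q ⟨v, hv, hvc, hvq⟩
    obtain ⟨g, hg⟩ := exists_conj_le Q (isPGroup_zpowers hvq)
    obtain ⟨y, hy, hyc, hyfix⟩ := exists_fixed_mod_center (M := (Q : Subgroup G) ⊓ N) Q.isPGroup'
      inf_le_left (fun h => hvc (by
        have := h (mem_inf.2 ⟨hg v (mem_zpowers v), T.hN.conj_mem v hv g⟩)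
        simpa [mul_assoc] using Subgroup.Normal.conj_mem inferInstance _ this g⁻¹)) fun a ha b hb =>
        mem_inf.2 ⟨(Q : Subgroup G).mul_mem ((Q : Subgroup G).mul_mem ha (mem_inf.1 hb).1)
          ((Q : Subgroup G).inv_mem ha), T.hN.conj_mem b (mem_inf.1 hb).2 a⟩
    exact ⟨y, (mem_inf.1 hy).2, hyc, exists_orderOf_pow Q.isPGroup' (mem_inf.1 hy).1, hyfix⟩
  haveI := Fact.mk hq₀
  obtain ⟨Q₀⟩ : Nonempty (Sylow q₀ G) := inferInstance
  obtain ⟨y₀, hy₀, hy₀c, hy₀q, hy₀fix⟩ := hfix q₀ Q₀ ⟨v₀, hv₀, hv₀c, hv₀q⟩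
  have hy₀mix : Mixed N r y₀ :=
    ⟨q₀, hq₀, hq₀r, y₀, mem_inf.2 ⟨hy₀, mem_cent.2 rfl⟩, hy₀c, hy₀q⟩
  obtain ⟨A₁, -, hA₁r, hA₁m⟩ := T.exists_prim hy₀ hy₀c hy₀mix hw r
  -- the element `x`
  obtain ⟨R, hR⟩ := hA₁r.exists_le_sylow
  obtain ⟨x, hxN, hxc, hxr, hxfix⟩ := hfix r R hw
  by_cases hxmix : Mixed N r x
  swap
  · refine (T.false_of_pure hxN hxc hy₀ hy₀c hq₀r Q₀ hy₀fix hy₀q hw hxmix fun c hc hcr => ?_).elim
    have h1 := hxfix c (hR ((hA₁m c).2 ⟨hc, hcr⟩))
    have h2 := inv_mem h1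
    have h3 := Subgroup.Normal.conj_mem inferInstance _ h2 (x * c * x⁻¹ * c⁻¹)
    convert h2 using 1
    group
  -- `x` is mixed
  obtain ⟨hC₀, hC₀comm⟩ := T.mixed_facts hxN hxc hxmix hw
  obtain ⟨A₀r, hA₀rC, hA₀rp, hA₀rm⟩ := T.exists_prim hxN hxc hxmix hw r
  have hxA : x ∈ A₀r := (hA₀rm x).2 ⟨mem_inf.2 ⟨hxN, mem_cent.2 rfl⟩, hxr⟩
  have hRn : ∀ g ∈ (R : Subgroup G), ∀ c ∈ comp N x, g * c * g⁻¹ ∈ comp N x := fun g hg c hc =>
    conj_mem_comp (hxfix g hg) hc
  have hA₀R : A₀r ≤ (R : Subgroup G) := le_sylow_of_conj_mem R hA₀rp fun g hg a ha => by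
    obtain ⟨h1, i, hi⟩ := (hA₀rm a).1 ha
    refine (hA₀rm _).2 ⟨hRn g hg a h1, i, ?_⟩
    rw [← hi]
    exact orderOf_injective (MulAut.conj g).toMonoidHom (MulAut.conj g).injective a
  have hconjord : ∀ (g a : G), orderOf (g * a * g⁻¹) = orderOf a := fun g a =>
    orderOf_injective (MulAut.conj g).toMonoidHom (MulAut.conj g).injective a
  obtain ⟨q, hq, hqr, b, hbC, hbc, hbq⟩ := id hxmix
  haveI := Fact.mk hq
  obtain ⟨A₀q, hA₀qC, hA₀qp, hA₀qm⟩ := T.exists_prim hxN hxc hxmix hw q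
  have hbA : b ∈ A₀q := (hA₀qm b).2 ⟨hbC, hbq⟩
  have hj : (centralizer ({x} : Set G)).relIndex (R : Subgroup G) < (center G).relIndex A₀q :=
    T.relIndex_lt hqr.symm R.isPGroup' hbA hbc hA₀qp (hC₀ b hbC hbc) fun g hg => by
      obtain ⟨h1, i, hi⟩ := (hA₀qm b).1 hbA
      exact (hA₀qm _).2 ⟨hRn g hg b h1, i, by rw [hconjord, hi]⟩
  obtain ⟨Q⟩ : Nonempty (Sylow q G) := inferInstance
  obtain ⟨y, hy, hyc, hyq, hyfix⟩ := hfix q Q ⟨b, (mem_inf.1 hbC).1, hbc, hbq⟩
  have hymix : Mixed N r y := ⟨q, hq, hqr, y, mem_inf.2 ⟨hy, mem_cent.2 rfl⟩, hyc, hyq⟩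
  obtain ⟨hC₁, -⟩ := T.mixed_facts hy hyc hymix hw
  obtain ⟨A₁r, -, hA₁rp, hA₁rm⟩ := T.exists_prim hy hyc hymix hw r
  obtain ⟨A₁q, -, hA₁qp, hA₁qm⟩ := T.exists_prim hy hyc hymix hw q
  have hQn : ∀ g ∈ (Q : Subgroup G), ∀ c ∈ comp N y, g * c * g⁻¹ ∈ comp N y := fun g hg c hc =>
    conj_mem_comp (hyfix g hg) hc
  have hA₁Q : A₁q ≤ (Q : Subgroup G) := le_sylow_of_conj_mem Q hA₁qp fun g hg a ha => by
    obtain ⟨h1, i, hi⟩ := (hA₁qm a).1 ha
    exact (hA₁qm _).2 ⟨hQn g hg a h1, i, by rw [hconjord, hi]⟩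
  obtain ⟨c₁, hc₁, hc₁c, hc₁r⟩ := T.exists_r_element hy hyc hw
  have hi : (centralizer ({y} : Set G)).relIndex (Q : Subgroup G) < (center G).relIndex A₁r :=
    T.relIndex_lt hqr Q.isPGroup' ((hA₁rm c₁).2 ⟨hc₁, hc₁r⟩) hc₁c hA₁rp (hC₁ c₁ hc₁ hc₁c)
      fun g hg => by
        obtain ⟨i, hi⟩ := hc₁r
        exact (hA₁rm _).2 ⟨hQn g hg c₁ hc₁, i, by rw [hconjord, hi]⟩
  by_cases hconj : ∃ g : G, g * y * g⁻¹ ∈ comp N x
  · obtain ⟨g, hg⟩ := hconj
    have hgyc : g * y * g⁻¹ ∉ center G := fun h => hyc (by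
      simpa [mul_assoc] using Subgroup.Normal.conj_mem inferInstance _ h g⁻¹)
    have hCg := hC₀ _ hg hgyc
    have hcomp : ∀ c, g * c * g⁻¹ ∈ comp N x ↔ c ∈ comp N y := fun c => by
      have := conj_mem_comp_iff (N := N) g y c
      rwa [comp, comp, hCg] at this
    have hmap : ∀ (s : ℕ) (A₀ A₁ : Subgroup G),
        (∀ t, t ∈ A₀ ↔ t ∈ comp N x ∧ ∃ i, orderOf t = s ^ i) →
        (∀ t, t ∈ A₁ ↔ t ∈ comp N y ∧ ∃ i, orderOf t = s ^ i) →
        (center G).relIndex A₁ = (center G).relIndex A₀ := by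
      intro s A₀ A₁ h₀ h₁
      have e : A₁.map (MulAut.conj g).toMonoidHom = A₀ := by
        ext t
        rw [Subgroup.mem_map, h₀]
        constructor
        · rintro ⟨c, hc, rfl⟩
          obtain ⟨hc1, i, hi⟩ := (h₁ c).1 hc
          exact ⟨(hcomp c).2 hc1, i, (hconjord g c).trans hi⟩
        · rintro ⟨ht, i, hi⟩
          refine ⟨g⁻¹ * t * g, (h₁ _).2 ⟨(hcomp _).1 ?_, i, ?_⟩, ?_⟩
          · simpa [mul_assoc] using ht
          · rw [show g⁻¹ * t * g = g⁻¹ * t * g⁻¹⁻¹ by group, hconjord, hi]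
          · simp [mul_assoc]
      have ez : (center G).map (MulAut.conj g).toMonoidHom = center G := by
        ext t
        rw [Subgroup.mem_map]
        constructor
        · rintro ⟨c, hc, rfl⟩
          exact Subgroup.Normal.conj_mem inferInstance _ hc g
        · intro ht
          refine ⟨t, ht, ?_⟩
          show g * t * g⁻¹ = t
          rw [mem_center_iff.1 ht g, mul_inv_cancel_right]
      rw [← e]
      conv_rhs => rw [← ez]
      exact (relIndex_map_map_of_injective _ _ (MulAut.conj g).injective).symm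
    rw [hmap r A₀r A₁r hA₀rm hA₁rm] at hi
    rw [← hmap q A₀q A₁q hA₀qm hA₁qm] at hj
    by_cases hv : ∃ v ∈ N, v ∉ center G ∧ ∀ h : G, h * v * h⁻¹ ∉ comp N x
    · obtain ⟨v, hvN, hvc, hv⟩ := hv
      have h1 := T.relIndex_le_of_not_conj hxN hxc hA₀rC (fun c hc hcc => hC₀ c hc hcc) hA₀R hvN hvc hv hxN hxc
      have hv' : ∀ h : G, h * v * h⁻¹ ∉ comp N y := fun h hh => hv (g * h) (by
        have := (hcomp _).2 hh
        simpa [mul_assoc] using this)
      have h2 := T.relIndex_le_of_not_conj hy hyc (fun t ht => ((hA₁qm t).1 ht).1)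
        (fun c hc hcc => hC₁ c hc hcc) hA₁Q hvN hvc hv' hy hyc
      omega
    · push Not at hv
      -- all components are conjugate
      have hcover : ∀ (a : G) (ha : a ∈ N) (hac : a ∉ center G),
          (∀ c ∈ comp N a, c ∉ center G → centralizer ({c} : Set G) = centralizer ({a} : Set G)) →
          (∀ c ∈ comp N a, ∀ d ∈ comp N a, c * d = d * c) →
          (∀ w ∈ N, w ∉ center G → ∃ h : G, h * w * h⁻¹ ∈ comp N a) →
          Group.IsNilpotent N ∨ ∃ h : G, ∀ n ∈ N, n * (h * a * h⁻¹) * n⁻¹ ∉ comp N a := by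
        intro a ha hac hCa hCcomm hcov
        by_contra hcon
        push Not at hcon
        obtain ⟨hnil, hcon⟩ := hcon
        apply hnil
        have htop : (comp N a).subgroupOf N = ⊤ := by
          refine ClassSize.eq_top_of_forall_exists_conj_mem _ fun w => ?_
          by_cases hwc : (w : G) ∈ center G
          · refine ⟨1, mem_subgroupOf.2 ?_⟩
            simp only [one_mul, inv_one, mul_one]
            exact mem_inf.2 ⟨w.2, mem_cent.2 (mem_center_iff.1 hwc a).symm⟩
          obtain ⟨h, hh⟩ := hcov w w.2 hwc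
          obtain ⟨n, hn, hna⟩ := hcon h⁻¹
          refine ⟨⟨n, hn⟩, mem_subgroupOf.2 ?_⟩
          show n * (w : G) * n⁻¹ ∈ comp N a
          have hnac : n * (h⁻¹ * a * h⁻¹⁻¹) * n⁻¹ ∉ center G := fun hz => hac (by
            simpa [mul_assoc] using Subgroup.Normal.conj_mem inferInstance _ hz (n * h⁻¹)⁻¹)
          have e := hCa _ hna hnac
          have h2 := (conj_mem_comp_iff (N := N) (n * h⁻¹) a (h * (w : G) * h⁻¹)).2 hh
          rw [show n * h⁻¹ * a * (n * h⁻¹)⁻¹ = n * (h⁻¹ * a * h⁻¹⁻¹) * n⁻¹ by group, comp, e] at h2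
          simpa [mul_assoc] using h2
        have hall : ∀ w : N, (w : G) ∈ comp N a := fun w =>
          mem_subgroupOf.1 (htop ▸ Subgroup.mem_top w)
        letI : CommGroup N := { (inferInstance : Group N) with mul_comm := fun u v => Subtype.ext (hCcomm _ (hall u) _ (hall v)) }
        exact CommGroup.isNilpotent
      rcases hcover x hxN hxc hC₀ hC₀comm hv with hnil | ⟨h, hh⟩
      · exact hnil
      have h1 := T.relIndex_le_of_conj hxN hxc (s := r) hC₀ hA₀rm hA₀R hh
      have hv₁ : ∀ w ∈ N, w ∉ center G → ∃ h : G, h * w * h⁻¹ ∈ comp N y := fun w hwN hwc => by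
        obtain ⟨h, hh⟩ := hv w hwN hwc
        refine ⟨g⁻¹ * h, (hcomp _).1 ?_⟩
        simpa [mul_assoc] using hh
      obtain ⟨-, hC₁comm⟩ := T.mixed_facts hy hyc hymix hw
      rcases hcover y hy hyc hC₁ hC₁comm hv₁ with hnil | ⟨h', hh'⟩
      · exact hnil
      have h2 := T.relIndex_le_of_conj hy hyc (s := q) hC₁ hA₁qm hA₁Q hh'
      omega
  · push Not at hconj
    have hconj' : ∀ h : G, h * x * h⁻¹ ∉ comp N y := by
      intro h hh
      have hhc : h * x * h⁻¹ ∉ center G := fun hz => hxc (by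
        simpa [mul_assoc] using Subgroup.Normal.conj_mem inferInstance _ hz h⁻¹)
      apply hconj h⁻¹
      have e := hC₁ _ hh hhc
      refine (conj_mem_comp_iff (N := N) h x _).1 ?_
      rw [comp, e, show h * (h⁻¹ * y * h⁻¹⁻¹) * h⁻¹ = y by group]
      exact mem_inf.2 ⟨hy, mem_cent.2 rfl⟩
    have h2 : (center G).relIndex A₀q ≤ (centralizer ({y} : Set G)).relIndex (Q : Subgroup G) :=
      T.relIndex_le_of_not_conj' hxN hxc hA₀qC hA₀qp (fun c hc hcc => hC₀ c hc hcc) Q hy hyc hconj hy hyc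
    have h1 : (center G).relIndex A₁r ≤ (centralizer ({x} : Set G)).relIndex (R : Subgroup G) :=
      T.relIndex_le_of_not_conj' hy hyc (fun t ht => ((hA₁rm t).1 ht).1) hA₁rp
        (fun c hc hcc => hC₁ c hc hcc) R hxN hxc hconj' hxN hxc
    omega

end Setup

end Cfsg.Agent.Lib.ClassSizeNormal
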